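import Mathlib.Algebra.Group.Units.Hom
import Mathlib.Tactic.Ring
import Mathlib.Tactic.Group
import Mathlib.Tactic.LinearCombination
import Mathlib.Algebra.Ring.Units

/-!
# Relations in an abstract rank one system

A group with two families of root elements indexed by a ring, a torus, a root and a coroot, subject to
the rank one commutation rule; the consequences for the Weyl elements and for products in the big cell.
-/

set_option autoImplicit false

universe u v w

namespace Groth.Agent.RankOneRelLib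

/-- An abstract rank one system. -/
structure Sys (R : Type u) [CommRing R] (H : Type v) [Group H] (T : Type w) [Group T] where
  P : R → H
  M : R → H
  I : T →* H
  al : T →* Rˣ
  av : Rˣ →* T
  P_add : ∀ a b, P (a + b) = P a * P b
  M_add : ∀ a b, M (a + b) = M a * M b
  al_av : ∀ u, al (av u) = u * u
  I_P : ∀ t a, I t * P a = P (al t * a) * I t
  I_M : ∀ t a, I t * M a = M ((al t)⁻¹.1 * a) * I t
  rule : ∀ a b (u : Rˣ), (u : R) = 1 + a * b →
    P a * M b = M (b * u⁻¹.1) * I (av u) * P (a * u⁻¹.1)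

namespace Sys

variable {R : Type u} [CommRing R] {H : Type v} [Group H] {T : Type w} [Group T] (σ : Sys R H T)

theorem P_zero : σ.P 0 = 1 := by
  simpa using σ.P_add 0 0

theorem M_zero : σ.M 0 = 1 := by
  simpa using σ.M_add 0 0

theorem P_neg (a : R) : σ.P (-a) = (σ.P a)⁻¹ :=
  eq_inv_of_mul_eq_one_left (by rw [← σ.P_add, neg_add_cancel, σ.P_zero])

theorem M_neg (a : R) : σ.M (-a) = (σ.M a)⁻¹ :=
  eq_inv_of_mul_eq_one_left (by rw [← σ.M_add, neg_add_cancel, σ.M_zero])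

theorem P_I (t : T) (a : R) : σ.P a * σ.I t = σ.I t * σ.P ((σ.al t)⁻¹.1 * a) := by
  rw [σ.I_P, ← mul_assoc, Units.mul_inv, one_mul]

/-- The big cell is stable under the products where the invariant is invertible. -/
theorem cell_mul (y x y' x' y₂ x₂ : R) (t t' : T) (u : Rˣ) (hu : (u : R) = 1 + x * y')
    (hy : (y₂ - y) * u * σ.al t = y') (hx : (x₂ - x') * u * σ.al t' = x) :
    σ.M y * σ.I t * σ.P x * (σ.M y' * σ.I t' * σ.P x') = σ.M y₂ * σ.I (t * σ.av u * t') * σ.P x₂ := by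
  have e1 : y + (σ.al t)⁻¹.1 * (y' * u⁻¹.1) = y₂ := by
    rw [← hy]
    linear_combination (y₂ - y) * ((σ.al t : R) * (σ.al t)⁻¹.1) * Units.mul_inv u + (y₂ - y) * Units.mul_inv (σ.al t)
  have e2 : (σ.al t')⁻¹.1 * (x * u⁻¹.1) + x' = x₂ := by
    rw [← hx]
    linear_combination (x₂ - x') * ((σ.al t' : R) * (σ.al t')⁻¹.1) * Units.mul_inv u + (x₂ - x') * Units.mul_inv (σ.al t')
  rw [← e1, ← e2, σ.M_add, σ.P_add, map_mul, map_mul]
  calc σ.M y * σ.I t * σ.P x * (σ.M y' * σ.I t' * σ.P x')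
      = σ.M y * σ.I t * (σ.P x * σ.M y') * σ.I t' * σ.P x' := by group
    _ = σ.M y * (σ.I t * σ.M (y' * u⁻¹.1)) * σ.I (σ.av u) * (σ.P (x * u⁻¹.1) * σ.I t') * σ.P x' := by
        rw [σ.rule x y' u hu]; group
    _ = _ := by rw [σ.I_M, σ.P_I]; group

/-- The Weyl element of `x` with opposite coordinate `b`. -/
def w (x b : R) : H :=
  σ.P x * σ.M b * σ.P x

theorem w_inv (x b : R) : (σ.w x b)⁻¹ = σ.w (-x) (-b) := by
  simp only [w, P_neg, M_neg, mul_inv_rev, mul_assoc]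

/-- Rescaling a Weyl element. -/
theorem w_smul (x b : R) (hxb : b * x = -1) (z : Rˣ) :
    σ.w (z * x) (z⁻¹.1 * b) = σ.I (σ.av z) * σ.w x b := by
  have hz : (z : R) = 1 + (z * x - x) * (-b) := by linear_combination ((z : R) - 1) * hxb
  have h := σ.rule (z * x - x) (-b) z hz
  have h2 := σ.I_P (σ.av z) (-(x * z⁻¹.1))
  rw [σ.al_av, Units.val_mul] at h2
  have e : (z : R) * z * (-(x * z⁻¹.1)) = -(z * x) := by linear_combination -((z : R) * x) * Units.mul_inv z
  rw [e] at h2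
  have e' : (z * x - x) * z⁻¹.1 + -x = -(x * z⁻¹.1) := by linear_combination x * Units.mul_inv z
  calc σ.w (z * x) (z⁻¹.1 * b)
      = σ.P (z * x) * σ.M (z⁻¹.1 * b) * (σ.P (z * x - x) * σ.M (-b)) * σ.P (-x) * σ.w x b := by
        rw [w, w, σ.P_neg, σ.M_neg, show σ.P (z * x - x) = σ.P (z * x) * (σ.P x)⁻¹ by
          rw [sub_eq_add_neg, σ.P_add, σ.P_neg]]
        group
    _ = σ.P (z * x) * (σ.M (z⁻¹.1 * b) * σ.M (-b * z⁻¹.1)) * σ.I (σ.av z) *
          (σ.P ((z * x - x) * z⁻¹.1) * σ.P (-x)) * σ.w x b := by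
        rw [h]; group
    _ = _ := by
        rw [← σ.M_add, show z⁻¹.1 * b + -b * z⁻¹.1 = 0 by ring, σ.M_zero, mul_one, ← σ.P_add, e',
          mul_assoc (σ.P (z * x)) (σ.I (σ.av z)), h2, σ.P_neg, mul_inv_cancel_left]

/-- Conjugation of the torus by a Weyl element. -/
theorem w_conj_torus (x b : R) (hxb : b * x = -1) (t : T) :
    σ.w x b * σ.I t * (σ.w x b)⁻¹ = (σ.I (σ.av (σ.al t)))⁻¹ * σ.I t := by
  have h : σ.I t * σ.w x b = σ.I (σ.av (σ.al t)) * σ.w x b * σ.I t := by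
    rw [← σ.w_smul x b hxb (σ.al t), w, w]
    calc σ.I t * (σ.P x * σ.M b * σ.P x)
        = σ.I t * σ.P x * σ.M b * σ.P x := by group
      _ = σ.P (σ.al t * x) * (σ.I t * σ.M b) * σ.P x := by rw [σ.I_P]; group
      _ = σ.P (σ.al t * x) * σ.M ((σ.al t)⁻¹.1 * b) * (σ.I t * σ.P x) := by rw [σ.I_M]; group
      _ = _ := by rw [σ.I_P]; group
  have h' : σ.w x b * σ.I t = (σ.I (σ.av (σ.al t)))⁻¹ * σ.I t * σ.w x b := by
    rw [mul_assoc, h]; group
  rw [h', mul_inv_cancel_right]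

/-- Rescaling a Weyl element from the right. -/
theorem w_smul' (x b : R) (hxb : b * x = -1) (z : Rˣ) :
    σ.w (z * x) (z⁻¹.1 * b) = σ.w x b * (σ.I (σ.av z))⁻¹ := by
  have h := σ.w_conj_torus x b hxb (σ.av z)⁻¹
  rw [map_inv, map_inv, σ.al_av, map_inv, map_inv, map_mul, map_mul, inv_inv, mul_inv_cancel_right] at h
  rw [σ.w_smul x b hxb z]
  nth_rewrite 1 [← h]
  group

/-- The product of two Weyl elements. -/
theorem w_mul_w (x b y c : R) (hxb : b * x = -1) (hyc : c * y = -1) (m : Rˣ) (hm : (m : R) * y = -x) :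
    σ.w x b * σ.w y c = σ.I (σ.av m) := by
  have hb : m⁻¹.1 * (-c) = b := by
    have h1 : b * ((m : R) * (-y)) = -1 := by rw [mul_neg, hm, neg_neg]; exact hxb
    linear_combination -(m⁻¹.1 * c) * h1 - b * hyc - (b * c * y) * Units.inv_mul m
  have h := σ.w_smul (-y) (-c) (by linear_combination hyc) m
  rw [hb, show (m : R) * -y = x by linear_combination -hm, ← σ.w_inv] at h
  rw [h, inv_mul_cancel_right]

/-- Conjugation of a root element by a Weyl element, for coordinates with an invertible invariant. -/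
theorem w_conj_P_aux (x b : R) (hxb : b * x = -1) (s : R) (u : Rˣ) (hu : (u : R) = 1 + s * (-b)) :
    σ.w x b * σ.P s * (σ.w x b)⁻¹ = σ.M (-(s * b * b)) := by
  have e0 : (1 : R) + x * (b - b * u⁻¹.1) = u⁻¹.1 := by linear_combination (1 - u⁻¹.1) * hxb
  have h1 := σ.rule s (-b) u hu
  have h2 := σ.rule x (b - b * u⁻¹.1) u⁻¹ e0.symm
  rw [inv_inv] at h2
  have h3 := σ.P_I (σ.av u) (x * u)
  rw [σ.al_av, mul_inv_rev, Units.val_mul] at h3
  calc σ.w x b * σ.P s * (σ.w x b)⁻¹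
      = σ.P x * σ.M b * (σ.P s * σ.M (-b)) * σ.P (-x) := by
        rw [w, σ.M_neg, σ.P_neg, mul_inv_rev, mul_inv_rev]
        rw [show σ.P x * σ.M b * σ.P x * σ.P s = σ.P x * σ.M b * (σ.P s * σ.P x) by
          rw [← σ.P_add, add_comm, σ.P_add]; group]
        group
    _ = σ.P x * (σ.M b * σ.M (-b * u⁻¹.1)) * σ.I (σ.av u) * (σ.P (s * u⁻¹.1) * σ.P (-x)) := by
        rw [h1]; group
    _ = (σ.P x * σ.M (b - b * u⁻¹.1)) * σ.I (σ.av u) * σ.P (s * u⁻¹.1 + -x) := by
        rw [← σ.M_add, ← σ.P_add, sub_eq_add_neg, neg_mul]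
    _ = σ.M ((b - b * u⁻¹.1) * u) * σ.I (σ.av u⁻¹) * (σ.P (x * u) * σ.I (σ.av u)) * σ.P (s * u⁻¹.1 + -x) := by
        rw [h2]; group
    _ = σ.M ((b - b * u⁻¹.1) * u) * (σ.I (σ.av u⁻¹) * σ.I (σ.av u)) *
          (σ.P (u⁻¹.1 * u⁻¹.1 * (x * u)) * σ.P (s * u⁻¹.1 + -x)) := by
        rw [h3]; group
    _ = _ := by
        rw [← map_mul, ← map_mul, inv_mul_cancel, map_one, map_one, mul_one, ← σ.P_add,
          show u⁻¹.1 * u⁻¹.1 * (x * u) + (s * u⁻¹.1 + -x) = 0 by
            linear_combination (u⁻¹.1 * x + x) * Units.mul_inv u - (x * u⁻¹.1) * hu + s * u⁻¹.1 * hxb,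
          σ.P_zero, mul_one,
          show (b - b * u⁻¹.1) * u = -(s * b * b) by linear_combination -b * Units.inv_mul u + b * hu]

/-- Splitting the coordinate removes the invertibility hypothesis. -/
theorem w_conj_P_of_split (x b : R) (hxb : b * x = -1) (s s' : R) (h : IsUnit (1 + s' * (-b)))
    (h' : IsUnit (1 + (s - s') * (-b))) : σ.w x b * σ.P s * (σ.w x b)⁻¹ = σ.M (-(s * b * b)) := by
  obtain ⟨u, hu⟩ := h
  obtain ⟨u', hu'⟩ := h'
  conv_lhs => rw [show s = s' + (s - s') by ring, σ.P_add]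
  calc σ.w x b * (σ.P s' * σ.P (s - s')) * (σ.w x b)⁻¹
      = (σ.w x b * σ.P s' * (σ.w x b)⁻¹) * (σ.w x b * σ.P (s - s') * (σ.w x b)⁻¹) := by group
    _ = _ := by
        rw [σ.w_conj_P_aux x b hxb s' u hu, σ.w_conj_P_aux x b hxb (s - s') u' hu', ← σ.M_add,
          show -(s' * b * b) + -((s - s') * b * b) = -(s * b * b) by ring]

/-- The two shapes of a Weyl element agree once it exchanges the root elements. -/
theorem w_eq_of_conj (x b : R) (h : σ.w x b * σ.P x * (σ.w x b)⁻¹ = σ.M b) :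
    σ.M b * σ.P x * σ.M b = σ.w x b := by
  have h' : σ.w x b * σ.P x = σ.M b * σ.w x b := by rw [← h, inv_mul_cancel_right]
  simp only [w, ← mul_assoc] at h'
  exact (mul_right_cancel h').symm

/-- The cube of a Weyl element times its root element. -/
theorem w_mul_P_pow_three (x b : R) (hxb : b * x = -1) (h : σ.w x b * σ.P x * (σ.w x b)⁻¹ = σ.M b)
    (h' : σ.w (-x) (-b) * σ.P (-x) * (σ.w (-x) (-b))⁻¹ = σ.M (-b)) :
    (σ.w x b * σ.P x) ^ 3 = 1 := by
  have hsq : σ.w x b * σ.w x b = σ.I (σ.av (-1)) :=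
    σ.w_mul_w x b x b hxb hxb (-1) (by simp)
  have hMPM := σ.w_eq_of_conj x b h
  have hconj : (σ.w x b)⁻¹ * σ.P x * σ.w x b = σ.M b := by
    have e := congrArg (fun g => g⁻¹) h'
    rw [← σ.w_inv, σ.P_neg, σ.M_neg] at e
    simpa only [mul_inv_rev, inv_inv, mul_assoc] using e
  set W := σ.w x b with hW
  set M := σ.M b
  set P := σ.P x
  have h4 : (W * W) * (W * W) = 1 := by
    rw [hsq, ← map_mul, ← map_mul, neg_mul_neg, one_mul, map_one, map_one]
  have e1 : W * P = M * W := by rw [← h, inv_mul_cancel_right]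
  have e2 : P * W = W * M := by rw [← hconj, ← mul_assoc, ← mul_assoc, mul_inv_cancel, one_mul]
  have e3 : W * M = P * W := e2.symm
  calc (W * P) ^ 3 = W * P * (W * P) * (W * P) := by rw [pow_succ, pow_two]
    _ = M * W * (M * W) * (M * W) := by rw [e1]
    _ = M * (W * M) * (W * M) * W := by group
    _ = M * P * (W * P) * (W * W) := by rw [e3]; group
    _ = (M * P * M) * W * (W * W) := by rw [e1]; group
    _ = 1 := by rw [hMPM, ← h4]

end Sys

end Groth.Agent.RankOneRelLib
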