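import Groth.Agent.RankOneRelLib.Alg
import Groth.Agent.GaPoints.Basic
import Groth.Prelude.Def_GmPts
import Groth.Agent.GaGmHom

/-!
# The rank one system attached to a group scheme, point by point
-/

set_option autoImplicit false
set_option backward.isDefEq.respectTransparency false
set_option backward.isDefEq.respectTransparency.types false
set_option linter.style.haveILetI false

universe u

open CategoryTheory Limits MonoidalCategory CartesianMonoidalCategory MonObj GrpObj AlgebraicGeometry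

noncomputable section

namespace Groth.Agent.RankOneRelLib

/-- The polynomial whose nonvanishing gives two units `1 + μ`, `2 - μ`. -/
def splitPoly : Polynomial (ULift.{u} ℤ) := (1 + Polynomial.X) * (2 - Polynomial.X)

/-- The universal ring splitting an element into two admissible coordinates. -/
abbrev SplitRing : Type u := Localization.Away splitPoly.{u}

instance : Flat (Spec.map (CommRingCat.ofHom (algebraMap (ULift.{u} ℤ) SplitRing.{u}))) := by
  rw [HasRingHomProperty.Spec_iff (P := @Flat), CommRingCat.hom_ofHom,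
    IsScalarTower.algebraMap_eq (ULift.{u} ℤ) (Polynomial (ULift.{u} ℤ)) SplitRing.{u}]
  exact RingHom.Flat.comp (RingHom.flat_algebraMap_iff.2 (Module.Flat.of_free))
    (RingHom.flat_algebraMap_iff.2 (IsLocalization.flat SplitRing.{u} (Submonoid.powers splitPoly.{u})))

theorem surjective_splitRing :
    Surjective (Spec.map (CommRingCat.ofHom (algebraMap (ULift.{u} ℤ) SplitRing.{u}))) := by
  refine ⟨fun q => ?_⟩
  let K := AlgebraicClosure q.asIdeal.ResidueField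
  obtain ⟨m, hm⟩ := Set.Finite.exists_notMem (s := ({-1, 2} : Set K)) (Set.toFinite _)
  let φ : Polynomial (ULift.{u} ℤ) →+* K := Polynomial.eval₂RingHom (algebraMap (ULift.{u} ℤ) K) m
  have hu : IsUnit (φ splitPoly) := by
    simp only [Set.mem_insert_iff, Set.mem_singleton_iff, not_or] at hm
    refine isUnit_iff_ne_zero.2 ?_
    simp only [φ, splitPoly, Polynomial.coe_eval₂RingHom, Polynomial.eval₂_mul, Polynomial.eval₂_add,
      Polynomial.eval₂_sub, Polynomial.eval₂_one, Polynomial.eval₂_X, Polynomial.eval₂_ofNat]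
    exact mul_ne_zero (fun h => hm.1 (eq_neg_of_add_eq_zero_right h)) (fun h => hm.2 (sub_eq_zero.1 h).symm)
  let ψ : SplitRing.{u} →+* K := IsLocalization.Away.lift splitPoly hu
  refine ⟨(⟨RingHom.ker ψ, RingHom.ker_isPrime ψ⟩ : PrimeSpectrum SplitRing.{u}), PrimeSpectrum.ext ?_⟩
  show (RingHom.ker ψ).comap (algebraMap (ULift.{u} ℤ) SplitRing.{u}) = q.asIdeal
  rw [RingHom.comap_ker, RingHom.ext_iff.2 (fun z => ?_) |> fun h : ψ.comp (algebraMap _ _) = algebraMap (ULift.{u} ℤ) K => h]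
  · rw [IsScalarTower.algebraMap_eq (ULift.{u} ℤ) q.asIdeal.ResidueField K, RingHom.ker_comp_of_injective _
      (RingHom.injective _), Ideal.ker_algebraMap_residueField]
  · rw [RingHom.comp_apply, IsScalarTower.algebraMap_apply (ULift.{u} ℤ) (Polynomial (ULift.{u} ℤ)) SplitRing.{u}]
    show IsLocalization.Away.lift splitPoly hu _ = _
    rw [IsLocalization.Away.lift_eq]
    simp [φ]

variable {S : Scheme.{u}}

/-- Over any scheme there is a faithfully flat cover on which some function splits `1` admissibly. -/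
theorem exists_split (X : Over S) :
    ∃ (X' : Over S) (f : X' ⟶ X), Epi f ∧ ∃ m : Γ(X'.left, ⊤), IsUnit (1 + m) ∧ IsUnit (2 - m) := by
  let j := Spec.map (CommRingCat.ofHom (algebraMap (ULift.{u} ℤ) SplitRing.{u}))
  let t := IsTerminal.from specULiftZIsTerminal X.left
  haveI := surjective_splitRing.{u}
  haveI : Flat (pullback.fst t j) := MorphismProperty.pullback_fst _ _ inferInstance
  haveI : Surjective (pullback.fst t j) := MorphismProperty.pullback_fst _ _ inferInstance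
  let f : Over.mk (pullback.fst t j ≫ X.hom) ⟶ X := Over.homMk (pullback.fst t j)
  haveI : Epi f.left := Flat.epi_of_flat_of_surjective (pullback.fst t j)
  refine ⟨_, f, (Over.forget _).epi_of_epi_map this, ?_⟩
  let r : SplitRing.{u} →+* Γ(pullback t j, ⊤) := GaPoints.ringMap (pullback.snd t j)
  have hp : IsUnit (algebraMap (Polynomial (ULift.{u} ℤ)) SplitRing.{u} splitPoly) :=
    IsLocalization.Away.algebraMap_isUnit _
  replace hp : IsUnit (algebraMap (Polynomial (ULift.{u} ℤ)) SplitRing.{u} ((1 + Polynomial.X) * (2 - Polynomial.X))) := hp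
  rw [map_mul, IsUnit.mul_iff, map_add, map_sub, map_one, map_ofNat] at hp
  refine ⟨r (algebraMap (Polynomial (ULift.{u} ℤ)) SplitRing.{u} Polynomial.X), ?_, ?_⟩
  · simpa using hp.1.map r
  · have := hp.2.map r
    rwa [map_sub, map_ofNat] at this

variable {G T : Over S} [GrpObj G] [GrpObj T] (i : T ⟶ G) [IsMonHom i]
    (α : T ⟶ Red.Gm S) [IsMonHom α] (pp pm : Red.Ga S ⟶ G) [IsMonHom pp] [IsMonHom pm]
    (av : Red.Gm S ⟶ T) [IsMonHom av]

/-- The point of the additive group with given coordinate. -/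
abbrev gp {X : Over S} (a : Γ(X.left, ⊤)) : X ⟶ Red.Ga S := (GaPoints.gaFnEquiv X).symm a

theorem gaFn_gp {X : Over S} (a : Γ(X.left, ⊤)) : Red.gaFn (gp a) = a :=
  (GaPoints.gaFnEquiv X).apply_symm_apply a

theorem gp_gaFn {X : Over S} (x : X ⟶ Red.Ga S) : gp (Red.gaFn x) = x :=
  (GaPoints.gaFnEquiv X).symm_apply_apply x

theorem gp_add {X : Over S} (a b : Γ(X.left, ⊤)) : gp a * gp b = gp (a + b) :=
  GaPoints.gaFn_injective (by rw [GaPoints.gaFn_mul, gaFn_gp, gaFn_gp, gaFn_gp])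

theorem comp_gp {X X' : Over S} (f : X' ⟶ X) (a : Γ(X.left, ⊤)) : f ≫ gp a = gp (f.left.appTop a) :=
  GaPoints.gaFn_injective (by rw [GaPoints.gaFn_comp, gaFn_gp, gaFn_gp])

/-- The root on points, as a homomorphism to the units. -/
def alH (X : Over S) : (X ⟶ T) →* (Γ(X.left, ⊤))ˣ :=
  MonoidHom.mk' (fun t => GmPts.unitOfPt (t ≫ α)) fun a b =>
    (congrArg GmPts.unitOfPt (MonObj.mul_comp a b α)).trans (GmPts.unitOfPt_mul (a ≫ α) (b ≫ α))

/-- The coroot on points, as a homomorphism from the units. -/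
def avH (X : Over S) : (Γ(X.left, ⊤))ˣ →* (X ⟶ T) :=
  MonoidHom.mk' (fun u => GmPts.ptOfUnit u ≫ av) fun a b =>
    (congrArg (fun p : X ⟶ Red.Gm S => p ≫ av) (GmPts.ptOfUnit_mul a b)).trans (MonObj.mul_comp _ _ av)

theorem alH_avH (h2 : av ≫ α = (𝟙 (Red.Gm S)) ^ 2) (X : Over S) (u : (Γ(X.left, ⊤))ˣ) :
    alH α X (avH av X u) = u * u := by
  show GmPts.unitOfPt ((GmPts.ptOfUnit u ≫ av) ≫ α) = u * u
  rw [Category.assoc, h2, MonObj.comp_pow, Category.comp_id, pow_two, GmPts.unitOfPt_mul,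
    GmPts.unitOfPt_ptOfUnit]

variable {i α pp pm av}

/-- The system on points with values in `X`. -/
def sys (hpp : ∀ (X : Over S) (t : X ⟶ T) (x : X ⟶ Red.Ga S), ∃ x' : X ⟶ Red.Ga S,
      x' ≫ pp = (t ≫ i) * (x ≫ pp) * (t ≫ i)⁻¹ ∧ Red.gaFn x' = Red.gmFn (t ≫ α) * Red.gaFn x)
    (hpm : ∀ (X : Over S) (t : X ⟶ T) (y : X ⟶ Red.Ga S), ∃ y' : X ⟶ Red.Ga S,
      y' ≫ pm = (t ≫ i) * (y ≫ pm) * (t ≫ i)⁻¹ ∧ Red.gaFn y' * Red.gmFn (t ≫ α) = Red.gaFn y)
    (h2 : av ≫ α = (𝟙 (Red.Gm S)) ^ 2)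
    (hF : ∀ (X : Over S) (x y : X ⟶ Red.Ga S), IsUnit (1 + Red.gaFn x * Red.gaFn y) →
      ∃ (x' y' : X ⟶ Red.Ga S) (z : X ⟶ Red.Gm S), Red.gmFn z = 1 + Red.gaFn x * Red.gaFn y ∧
        Red.gaFn x' * Red.gmFn z = Red.gaFn x ∧ Red.gaFn y' * Red.gmFn z = Red.gaFn y ∧
        (x ≫ pp) * (y ≫ pm) = (y' ≫ pm) * (z ≫ av ≫ i) * (x' ≫ pp))
    (X : Over S) : Sys Γ(X.left, ⊤) (X ⟶ G) (X ⟶ T) where
  P a := gp a ≫ pp
  M a := gp a ≫ pm
  I := MonoidHom.mk' (fun t => t ≫ i) fun a b => MonObj.mul_comp a b i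
  al := alH α X
  av := avH av X
  P_add a b := by rw [← gp_add, MonObj.mul_comp]
  M_add a b := by rw [← gp_add, MonObj.mul_comp]
  al_av u := alH_avH α av h2 X u
  I_P t a := by
    obtain ⟨x', h, hx'⟩ := hpp X t (gp a)
    rw [gaFn_gp] at hx'
    show (t ≫ i) * (gp a ≫ pp) = gp ((GmPts.unitOfPt (t ≫ α) : Γ(X.left, ⊤)) * a) ≫ pp * (t ≫ i)
    rw [show gp ((GmPts.unitOfPt (t ≫ α) : Γ(X.left, ⊤)) * a) = x' from GaPoints.gaFn_injective (by
      rw [gaFn_gp, hx', GmPts.val_unitOfPt]), h, inv_mul_cancel_right]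
  I_M t a := by
    obtain ⟨x', h, hx'⟩ := hpm X t (gp a)
    rw [gaFn_gp, ← GmPts.val_unitOfPt] at hx'
    show (t ≫ i) * (gp a ≫ pm) = gp (((GmPts.unitOfPt (t ≫ α))⁻¹).1 * a) ≫ pm * (t ≫ i)
    rw [show gp (((GmPts.unitOfPt (t ≫ α))⁻¹).1 * a) = x' from GaPoints.gaFn_injective (by
      rw [gaFn_gp, ← hx', mul_comm, Units.mul_inv_cancel_right]), h, inv_mul_cancel_right]
  rule a b u hu := by
    obtain ⟨x', y', z, hz, hx', hy', h⟩ := hF X (gp a) (gp b) (by rw [gaFn_gp, gaFn_gp, ← hu]; exact u.isUnit)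
    rw [gaFn_gp, gaFn_gp, ← hu] at hz
    rw [gaFn_gp, hz] at hx' hy'
    show gp a ≫ pp * (gp b ≫ pm) = gp (b * u⁻¹.1) ≫ pm * ((GmPts.ptOfUnit u ≫ av) ≫ i) * (gp (a * u⁻¹.1) ≫ pp)
    rw [show GmPts.ptOfUnit u = z from GmPts.gmFn_injective (by
        show Red.gmFn (GmPts.ptOfUnit u) = Red.gmFn z
        rw [GmPts.gmFn_ptOfUnit, hz]),
      show gp (b * u⁻¹.1) = y' from GaPoints.gaFn_injective (by rw [gaFn_gp, ← hy', Units.mul_inv_cancel_right]),
      show gp (a * u⁻¹.1) = x' from GaPoints.gaFn_injective (by rw [gaFn_gp, ← hx', Units.mul_inv_cancel_right]),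
      h, Category.assoc]

variable (hpp : ∀ (X : Over S) (t : X ⟶ T) (x : X ⟶ Red.Ga S), ∃ x' : X ⟶ Red.Ga S,
      x' ≫ pp = (t ≫ i) * (x ≫ pp) * (t ≫ i)⁻¹ ∧ Red.gaFn x' = Red.gmFn (t ≫ α) * Red.gaFn x)
    (hpm : ∀ (X : Over S) (t : X ⟶ T) (y : X ⟶ Red.Ga S), ∃ y' : X ⟶ Red.Ga S,
      y' ≫ pm = (t ≫ i) * (y ≫ pm) * (t ≫ i)⁻¹ ∧ Red.gaFn y' * Red.gmFn (t ≫ α) = Red.gaFn y)
    (h2 : av ≫ α = (𝟙 (Red.Gm S)) ^ 2)
    (hF : ∀ (X : Over S) (x y : X ⟶ Red.Ga S), IsUnit (1 + Red.gaFn x * Red.gaFn y) →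
      ∃ (x' y' : X ⟶ Red.Ga S) (z : X ⟶ Red.Gm S), Red.gmFn z = 1 + Red.gaFn x * Red.gaFn y ∧
        Red.gaFn x' * Red.gmFn z = Red.gaFn x ∧ Red.gaFn y' * Red.gmFn z = Red.gaFn y ∧
        (x ≫ pp) * (y ≫ pm) = (y' ≫ pm) * (z ≫ av ≫ i) * (x' ≫ pp))

theorem sys_P {X : Over S} (x : X ⟶ Red.Ga S) : (sys hpp hpm h2 hF X).P (Red.gaFn x) = x ≫ pp :=
  congrArg (fun y => y ≫ pp) (gp_gaFn x)

theorem sys_M {X : Over S} (x : X ⟶ Red.Ga S) : (sys hpp hpm h2 hF X).M (Red.gaFn x) = x ≫ pm :=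
  congrArg (fun y => y ≫ pm) (gp_gaFn x)

theorem sys_I {X : Over S} (t : X ⟶ T) : (sys hpp hpm h2 hF X).I t = t ≫ i := rfl

theorem sys_av {X : Over S} (z : X ⟶ Red.Gm S) : (sys hpp hpm h2 hF X).av (GmPts.unitOfPt z) = z ≫ av :=
  congrArg (fun y => y ≫ av) (GmPts.ptOfUnit_unitOfPt z)

theorem sys_al {X : Over S} (t : X ⟶ T) : (sys hpp hpm h2 hF X).al t = GmPts.unitOfPt (t ≫ α) := rfl

include hpp hpm h2 hF in
/-- A Weyl element carries its root element to the opposite one. -/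
theorem w_conj_root (X : Over S) (x b : Γ(X.left, ⊤)) (hxb : b * x = -1) :
    (sys hpp hpm h2 hF X).w x b * (sys hpp hpm h2 hF X).P x * ((sys hpp hpm h2 hF X).w x b)⁻¹ =
      (sys hpp hpm h2 hF X).M b := by
  obtain ⟨X', f, hf, m, hm1, hm2⟩ := exists_split X
  haveI := hf
  rw [← cancel_epi f]
  let x' : Γ(X'.left, ⊤) := f.left.appTop x
  let b' : Γ(X'.left, ⊤) := f.left.appTop b
  have hxb' : b' * x' = -1 := by
    show f.left.appTop b * f.left.appTop x = -1
    rw [← map_mul, hxb, map_neg, map_one]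
  have hP : ∀ a, f ≫ (sys hpp hpm h2 hF X).P a = (sys hpp hpm h2 hF X').P (f.left.appTop a) := fun a => by
    show f ≫ gp a ≫ pp = _
    rw [← Category.assoc, comp_gp]; rfl
  have hM : ∀ a, f ≫ (sys hpp hpm h2 hF X).M a = (sys hpp hpm h2 hF X').M (f.left.appTop a) := fun a => by
    show f ≫ gp a ≫ pm = _
    rw [← Category.assoc, comp_gp]; rfl
  simp only [Sys.w, MonObj.comp_mul, GrpObj.comp_inv, hP, hM]
  have h := (sys hpp hpm h2 hF X').w_conj_P_of_split x' b' hxb' x' (x' * m)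
    (by rw [show 1 + x' * m * -b' = 1 + m by linear_combination -m * hxb']; exact hm1)
    (by rw [show 1 + (x' - x' * m) * -b' = 2 - m by linear_combination (m - 1) * hxb']; exact hm2)
  rw [show -(x' * b' * b') = b' by linear_combination -b' * hxb'] at h
  exact h

end Groth.Agent.RankOneRelLib
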